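import Groth.Agent.AnPts.Basic
import Groth.Prelude.Def_AnHol

/-! Holomorphic functions on affine space are the complex differentiable functions of the coordinates. -/

set_option autoImplicit false
set_option backward.isDefEq.respectTransparency false
set_option backward.isDefEq.respectTransparency.types false

open AlgebraicGeometry CategoryTheory TopologicalSpace Opposite Topology

namespace Groth.Agent.AnHolLib

open An An.Pts

noncomputable section

variable {n : ℕ}

/-- The coordinates of a complex point of affine space. -/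
def kap (n : ℕ) (x : Pts (𝔸(Fin n; SC))) : Fin n → ℂ := fun i => x.evTop (AffineSpace.coord SC i)

theorem surjective_eval₂Hom :
    Function.Surjective (MvPolynomial.eval₂Hom (strHom (𝔸(Fin n; SC))) (AffineSpace.coord SC (n := Fin n))) := by
  intro a
  have hb : Function.Surjective
      (MvPolynomial.eval₂Hom ((𝔸(Fin n; SC) ↘ SC).appTop).hom (AffineSpace.coord SC (n := Fin n))) := by
    intro b
    obtain ⟨c, hc⟩ := (ConcreteCategory.bijective_of_isIso (AffineSpace.isoOfIsAffine (Fin n) SC).hom.appTop).2 b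
    rw [AffineSpace.isoOfIsAffine_hom_appTop] at hc
    exact ⟨_, hc⟩
  obtain ⟨p, hp⟩ := hb a
  obtain ⟨q, hq⟩ := MvPolynomial.map_surjective (Scheme.ΓSpecIso (CommRingCat.of ℂ)).inv.hom
    (ConcreteCategory.bijective_of_isIso (Scheme.ΓSpecIso (CommRingCat.of ℂ)).inv).2 p
  refine ⟨q, ?_⟩
  rw [← hp, ← hq]
  simp only [MvPolynomial.coe_eval₂Hom, MvPolynomial.eval₂_map]
  rfl

theorem surjective_kap : Function.Surjective (kap n) := fun z => by
  let v : Fin n → Γ(SC, ⊤) := fun i => (Scheme.ΓSpecIso (CommRingCat.of ℂ)).inv (z i)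
  refine ⟨⟨AffineSpace.homOfVector (𝟙 SC) v, AffineSpace.homOfVector_over _ _⟩, funext fun i => ?_⟩
  rw [kap, AnPts.evTop_eq, AffineSpace.homOfVector_appTop_coord]
  simp [v]

theorem isClosedEmbedding_kap : IsClosedEmbedding (kap n) :=
  AnPts.isClosedEmbedding_evTop _ surjective_eval₂Hom

theorem isHomeomorph_kap : IsHomeomorph (kap n) :=
  isHomeomorph_iff_isEmbedding_surjective.2 ⟨isClosedEmbedding_kap.toIsEmbedding, surjective_kap⟩

theorem differentiable_eval (p : MvPolynomial (Fin n) ℂ) : Differentiable ℂ fun z : Fin n → ℂ => MvPolynomial.eval z p := by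
  induction p using MvPolynomial.induction_on with
  | C c => simp
  | add p q hp hq => simp only [map_add]; exact hp.add hq
  | mul_X p i hp => simp only [map_mul, MvPolynomial.eval_X]; exact hp.mul (differentiable_apply i)

theorem evTop_eq_eval (a : Γ(𝔸(Fin n; SC), ⊤)) :
    ∃ p : MvPolynomial (Fin n) ℂ, ∀ x : Pts (𝔸(Fin n; SC)), x.evTop a = MvPolynomial.eval (kap n x) p := by
  obtain ⟨p, rfl⟩ := surjective_eval₂Hom a
  exact ⟨p, fun x => AnPts.evTop_mvPolynomial x _ p⟩

/-- The germ at a point of a regular function, in coordinates. -/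
theorem exists_diff_ev (W : (𝔸(Fin n; SC)).Opens) (f : Γ(𝔸(Fin n; SC), W)) (x : Pts (𝔸(Fin n; SC))) (hx : x.pt ∈ W) :
    ∃ (O : Set (Pts (𝔸(Fin n; SC)))) (Φ : (Fin n → ℂ) → ℂ), IsOpen O ∧ x ∈ O ∧ DifferentiableAt ℂ Φ (kap n x) ∧
      ∀ y ∈ O, ∀ hy : y.pt ∈ W, y.ev W hy f = Φ (kap n y) := by
  obtain ⟨g, hgU, hxg⟩ := (isAffineOpen_top (𝔸(Fin n; SC))).exists_basicOpen_le ⟨x.pt, hx⟩ trivial
  haveI := (isAffineOpen_top (𝔸(Fin n; SC))).isLocalization_basicOpen g
  obtain ⟨⟨a, m⟩, ham⟩ := IsLocalization.surj (Submonoid.powers g) ((𝔸(Fin n; SC)).presheaf.map (homOfLE hgU).op f)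
  obtain ⟨N, hN⟩ : ∃ N : ℕ, g ^ N = (m : Γ(𝔸(Fin n; SC), ⊤)) := m.2
  obtain ⟨p, hp⟩ := evTop_eq_eval a
  obtain ⟨q, hq⟩ := evTop_eq_eval g
  refine ⟨pt ⁻¹' ((𝔸(Fin n; SC)).basicOpen g : Set _), fun z => MvPolynomial.eval z p / MvPolynomial.eval z q ^ N,
    isOpen_preimage_pt _, hxg, ?_, fun y hy hyW => ?_⟩
  · have h1 : DifferentiableAt ℂ (fun z : Fin n → ℂ => MvPolynomial.eval z q ^ N) (kap n x) :=
      (differentiable_eval q _).fun_pow N
    simp only [div_eq_mul_inv]
    refine DifferentiableAt.fun_mul (differentiable_eval p _) (DifferentiableAt.fun_inv h1 ?_)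
    refine pow_ne_zero N ?_
    rw [← hq]
    exact (AnPts.mem_basicOpen_iff x g).1 hxg
  · have hg : y.evTop g ≠ 0 := (AnPts.mem_basicOpen_iff y g).1 hy
    have h1 := congrArg (AnPts.evHom y ((𝔸(Fin n; SC)).basicOpen g) hy) ham
    rw [map_mul, AnPts.evHom_apply, AnPts.ev_res, RingHom.algebraMap_toAlgebra] at h1
    show _ = MvPolynomial.eval (kap n y) p / MvPolynomial.eval (kap n y) q ^ N
    rw [← hp, ← hq, eq_div_iff (pow_ne_zero _ hg)]
    refine Eq.trans ?_ (h1.trans (AnPts.ev_eq_evTop y hy a))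
    congr 1
    rw [← hN, map_pow, map_pow, AnPts.evHom_apply]
    exact congrArg (· ^ N) (AnPts.ev_eq_evTop y hy g).symm

/-- Members of the chart algebra are differentiable in the coordinates. -/
theorem differentiableAt_of_mem_chartAlg {V : Opens (An.top (𝔸(Fin n; SC)))} {f : V → ℂ} (hf : f ∈ chartAlg V)
    (x : V) :
    DifferentiableAt ℂ (Function.extend (fun y : V => kap n y.1) f 0) (kap n x.1) := by
  have hinj : Function.Injective (fun y : V => kap n y.1) := fun y y' h => Subtype.ext (isHomeomorph_kap.injective h)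
  have hext : ∀ (f : V → ℂ) (Φ : (Fin n → ℂ) → ℂ) (O : Set (Pts (𝔸(Fin n; SC)))), IsOpen O → x.1 ∈ O →
      DifferentiableAt ℂ Φ (kap n x.1) → (∀ y : V, y.1 ∈ O → f y = Φ (kap n y.1)) →
      DifferentiableAt ℂ (Function.extend (fun y : V => kap n y.1) f 0) (kap n x.1) := by
    intro f Φ O hO hxO hΦ h
    refine hΦ.congr_of_eventuallyEq (Filter.eventuallyEq_of_mem
      ((isHomeomorph_kap.isOpenMap _ (hO.inter V.2)).mem_nhds ⟨x.1, ⟨hxO, x.2⟩, rfl⟩) ?_)
    rintro _ ⟨y, ⟨hyO, hyV⟩, rfl⟩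
    exact (hinj.extend_apply f 0 ⟨y, hyV⟩).trans (h ⟨y, hyV⟩ hyO)
  have hV : ∀ y : V, y.1 ∈ (Set.univ : Set (Pts (𝔸(Fin n; SC)))) := fun _ => Set.mem_univ _
  induction hf using Algebra.adjoin_induction with
  | mem g hg =>
    obtain ⟨W, hW, m, s, D, G, hD, hG, hval⟩ := hg
    choose O Φ hO hxO hΦ hev using fun i => exists_diff_ev W (s i) x.1 (hW x)
    refine hext g (fun z => G fun i => Φ i z) (⋂ i, O i) (isOpen_iInter_of_finite hO) (Set.mem_iInter.2 hxO) ?_
      fun y hy => ?_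
    · refine DifferentiableAt.comp _ (hG.differentiableAt (hD.mem_nhds ?_)) (differentiableAt_pi.2 hΦ)
      rw [show (fun i => Φ i (kap n x.1)) = _ from funext fun i => (hev i x.1 (hxO i) (hW x)).symm]
      exact (hval x).1
    · rw [(hval y).2]
      exact congrArg G (funext fun i => hev i y.1 (Set.mem_iInter.1 hy i) (hW y))
  | algebraMap c => exact hext _ (fun _ => c) Set.univ isOpen_univ (Set.mem_univ _) (differentiableAt_const _) fun _ _ => rfl
  | add a b _ _ ha hb =>
    exact hext _ _ Set.univ isOpen_univ (Set.mem_univ _) (ha.add hb) fun y _ => by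
      simp [hinj.extend_apply]
  | mul a b _ _ ha hb =>
    exact hext _ _ Set.univ isOpen_univ (Set.mem_univ _) (ha.mul hb) fun y _ => by
      simp [hinj.extend_apply]

theorem holPred_affineSpace_iff (U : TopologicalSpace.Opens (An.Pts (𝔸(Fin n; SC)))) (g : U → ℂ) :
    (An.holPred (𝔸(Fin n; SC))).pred g ↔
      ∃ G : (Fin n → ℂ) → ℂ, DifferentiableOn ℂ G (kap n '' (U : Set (An.Pts (𝔸(Fin n; SC))))) ∧
        ∀ x : U, g x = G (kap n x.1) := by
  constructor
  · intro hg
    have hinjU : Function.Injective (fun y : U => kap n y.1) := fun y y' h => Subtype.ext (isHomeomorph_kap.injective h)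
    refine ⟨Function.extend (fun y : U => kap n y.1) g 0, ?_, fun x => (hinjU.extend_apply g 0 x).symm⟩
    rintro _ ⟨x, hxU, rfl⟩
    obtain ⟨V, hxV, i, hV⟩ := hg ⟨x, hxU⟩
    have hd := differentiableAt_of_mem_chartAlg hV ⟨x, hxV⟩
    have hinjV : Function.Injective (fun y : V => kap n y.1) := fun y y' h => Subtype.ext (isHomeomorph_kap.injective h)
    refine (hd.congr_of_eventuallyEq (Filter.eventuallyEq_of_mem
      ((isHomeomorph_kap.isOpenMap _ V.2).mem_nhds ⟨x, hxV, rfl⟩) ?_)).differentiableWithinAt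
    rintro _ ⟨y, hyV, rfl⟩
    exact (hinjU.extend_apply g 0 ⟨y, i.le hyV⟩).trans (hinjV.extend_apply (fun z => g (i z)) 0 ⟨y, hyV⟩).symm
  · rintro ⟨G, hG, hg⟩
    refine holPred_of_chartAlg (Algebra.subset_adjoin ?_)
    exact ⟨⊤, fun _ => trivial, n, AffineSpace.coord SC, kap n '' (U : Set _), G,
      isHomeomorph_kap.isOpenMap _ U.2, hG, fun x => ⟨⟨x.1, x.2, rfl⟩, hg x⟩⟩

end

end Groth.Agent.AnHolLib
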